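import Cfsg.Agent.H325.RIM.Main
import Cfsg.Agent.H325.RIM.EKCongr
import Cfsg.Agent.H46.RIM.Psl
import Cfsg.Agent.H365.RIM.Sp
import Cfsg.Agent.H600.RIM.Row
import Cfsg.Agent.H916.RIM.U43
import Cfsg.Agent.H243.RIM.SzEight
import Cfsg.Agent.H795.RIM.G23Row
import Cfsg.Agent.H344.RIM.McL
import Cfsg.Agent.H395.RIM.EKPsl

/-!
# S4816: fields of `RowsNB` and `RowsKill`, first batch (helper325)
-/

set_option autoImplicit false
set_option linter.unusedSectionVars false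

namespace Cfsg.Agent.H325.RIM

open Cfsg Cfsg.Agent.H665.RIM Cfsg.Agent.OrdDiv Cfsg.Agent.H436

universe u

theorem f_psl : ∀ p n q : ℕ, p.Prime → p ≠ 2 → ¬ p ∣ q →
    (n, q) ∉ ({(2, 4), (2, 9), (3, 2), (3, 4), (4, 2)} : Set (ℕ × ℕ)) → NBRow p (.psl n q) :=
  fun p n q hp h2 hq hex => Cfsg.Agent.H46.RIM.row_psl p n q hp h2 hq hex

theorem f_psp : ∀ p m q : ℕ, p.Prime → p ≠ 2 → ¬ p ∣ q → Odd q → NBRow p (.psp m q) := by
  intro p m q hp h2 hq ho S _ _ hS hd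
  obtain ⟨F, _, _, hF, ⟨e⟩⟩ := hS.real
  subst hF
  refine H365.RIM.nb_psp (F := F) ?_ hS.cond.1 e hp ?_ hd
  · intro h
    obtain ⟨r, hr⟩ := CharP.exists F
    have hrp : r.Prime := (CharP.char_is_prime_or_zero F r).resolve_right (CharP.char_ne_zero_of_finite F r)
    have : Fact r.Prime := ⟨hrp⟩
    have h1 : r ∣ 2 := (CharP.cast_eq_zero_iff F r 2).1 (by exact_mod_cast h)
    have h3 : r = 2 := (Nat.prime_dvd_prime_iff_eq hrp Nat.prime_two).1 h1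
    obtain ⟨n, hn0, hn⟩ := FiniteField.card F r
    rw [hn, h3] at ho
    exact (Nat.not_odd_iff_even.2 ((Nat.even_pow.2 ⟨even_two, n.2.ne'⟩))) ho
  · intro h
    obtain ⟨r, hr⟩ := CharP.exists F
    have hrp : r.Prime := (CharP.char_is_prime_or_zero F r).resolve_right (CharP.char_ne_zero_of_finite F r)
    have : Fact r.Prime := ⟨hrp⟩
    have h1 : r ∣ p := (CharP.cast_eq_zero_iff F r p).1 h
    have h3 : r = p := (Nat.prime_dvd_prime_iff_eq hrp hp).1 h1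
    obtain ⟨n, hn0, hn⟩ := FiniteField.card F r
    rw [hn, h3] at hq
    exact hq (dvd_pow_self p n.2.ne')

theorem f_alt : ∀ p n : ℕ, p.Prime → p ≠ 2 → 8 ≤ n → ¬ (n = 8 ∧ p = 5) → NBRow p (.alt n) := by
  intro p n hp h2 h8 hex S _ _ hS hd
  obtain ⟨e⟩ := hS.real
  refine H600.RIM.nball_alt h8 e hp h2 ?_ hex
  have h1 : p ∣ n.factorial := by
    have h3 := hS.eq
    change 2 * Nat.card S = n.factorial at h3
    rw [← h3]
    exact Dvd.dvd.mul_left hd 2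
  exact hp.dvd_factorial.1 h1

theorem f_mcl : NBRow 5 .mcl := fun _ _ _ hS _ => H344.RIM.nball_five hS.real

theorem k_mcl : ∀ p : ℕ, p = 7 ∨ p = 11 → KillRow.{u} p .mcl := by
  rintro p (rfl | rfl) S _ _ hS
  · exact Or.inl (H344.RIM.nball_seven hS.real)
  · exact Or.inl (H344.RIM.nball_eleven hS.real)

theorem k_u43 : ∀ p : ℕ, p = 5 ∨ p = 7 → KillRow.{u} p (.psu 4 3) := by
  rintro p (rfl | rfl) S _ _ hS
  · obtain ⟨F, _, _, hF, ⟨e⟩⟩ := hS.real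
    exact Or.inl (H916.RIM.U43.row_five hF e)
  · obtain ⟨F, _, _, hF, ⟨e⟩⟩ := hS.real
    exact Or.inl (H916.RIM.U43.row_seven hF e)

theorem k_sz8 : ∀ p : ℕ, p = 5 ∨ p = 7 ∨ p = 13 → KillRow.{u} p (.sz 8) := by
  intro p h S _ _ hS
  obtain ⟨F, _, _, m, hm, hF, hq, ⟨e⟩⟩ := hS.real
  have h1 : m = 1 := by
    have h3 : 2 ^ (2 * m + 1) = 2 ^ 3 := by rw [← hq]; norm_num
    have := Nat.pow_right_injective (le_refl 2) h3
    omega
  subst h1
  exact Or.inl (H243.RIM.Sz8.nball hF e h)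

theorem k_g23 : ∀ p : ℕ, p = 7 ∨ p = 13 → KillRow.{u} p (.g2 3) := by
  intro p h S _ _ hS
  obtain ⟨F, _, _, hF, e⟩ := hS.real
  exact Or.inl (H795.RIM.G23.row hF e h)

theorem k_psl2 : ∀ p q : ℕ, p.Prime → p ≠ 2 → p ∣ q → KillRow.{u} p (.psl 2 q) := by
  intro p q hp h2 hq S _ _ hS
  obtain ⟨F, _, _, hF, ⟨e⟩⟩ := hS.real
  obtain ⟨r, hr⟩ := CharP.exists F
  have hrp : r.Prime := (CharP.char_is_prime_or_zero F r).resolve_right (CharP.char_ne_zero_of_finite F r)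
  have : Fact r.Prime := ⟨hrp⟩
  obtain ⟨n, -, hn⟩ := FiniteField.card F r
  have h1 : p = r := (Nat.prime_dvd_prime_iff_eq hp hrp).1 (hp.dvd_of_dvd_pow (by rw [← hn, hF]; exact hq))
  subst h1
  exact Or.inr (H395.RIM.EKPsl.ek_psl2 (F := F) p h2 (by rw [hF]; exact hS.cond.2.1 rfl) e)

end Cfsg.Agent.H325.RIM
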