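import Cfsg.Agent.H325.RIM.Main
import Cfsg.Agent.H325.RIM.EKCongr
import Cfsg.Agent.H726.RIM.TwE6
import Cfsg.Agent.H74.RIM.SpRow
import Cfsg.Agent.H175.RIM.AltSeven

/-!
# S4816: fields of `RowsNB` and `RowsKill`, second batch (helper325)
-/

set_option autoImplicit false
set_option linter.unusedSectionVars false

namespace Cfsg.Agent.H325.RIM

open Cfsg Cfsg.Agent.H665.RIM Cfsg.Agent.OrdDiv Cfsg.Agent.H436

universe u

theorem f_te6 : ∀ p q : ℕ, p.Prime → p ≠ 2 → p ≠ 3 → ¬ p ∣ q → 3 ∣ q + 1 → q ≠ 2 → NBRow p (.te6 q) :=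
  Cfsg.Agent.H726.RIM.row

theorem f_alt7 : NBRow 3 (.alt 7) := by
  intro S _ _ hS _
  obtain ⟨e⟩ := hS.real
  exact H175.RIM.nball_alt7 e

theorem f_sp62 : NBRow 3 (.psp 3 2) := by
  intro S _ _ hS hd
  obtain ⟨F, _, _, hF, e⟩ := hS.real
  exact H74.RIM.row_psp62 hF e (by norm_num) (by norm_num) hd

theorem k_sp62 : ∀ p : ℕ, p = 5 ∨ p = 7 → KillRow.{u} p (.psp 3 2) := by
  intro p h S _ _ hS
  have hd : 5 ∣ Nat.card S ∧ 7 ∣ Nat.card S := by
    rw [hS.ord]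
    decide +kernel
  obtain ⟨F, _, _, hF, e⟩ := hS.real
  rcases h with rfl | rfl
  · exact Or.inl (H74.RIM.row_psp62 hF e (by norm_num) (by norm_num) hd.1)
  · exact Or.inl (H74.RIM.row_psp62 hF e (by norm_num) (by norm_num) hd.2)

end Cfsg.Agent.H325.RIM
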