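import Cfsg.Agent.H325.RIM.Main
import Cfsg.Agent.H325.RIM.EKCongr
import Cfsg.Agent.H908.RIM.ESeven

/-!
# S4816: fields of `RowsNB` and `RowsKill`, third batch (helper325)
-/

set_option autoImplicit false
set_option linter.unusedSectionVars false

namespace Cfsg.Agent.H325.RIM

open Cfsg Cfsg.Agent.H665.RIM Cfsg.Agent.OrdDiv Cfsg.Agent.H436

universe u

/-- a field of characteristic `p` has order divisible by `p` -/
theorem not_charP {F : Type} [Field F] [Fintype F] {p : ℕ} (hp : p.Prime) (h : ¬ p ∣ Fintype.card F) : ¬ CharP F p := by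
  intro hc
  have : Fact p.Prime := ⟨hp⟩
  obtain ⟨n, -, hn⟩ := FiniteField.card F p
  exact h (by rw [hn]; exact dvd_pow_self p n.2.ne')

theorem f_e7 : ∀ p q : ℕ, p.Prime → p ≠ 2 → ¬ p ∣ q → Odd q → NBRow p (.e7 q) := by
  intro p q hp _ hq _ S _ _ hS hd
  obtain ⟨F, _, _, rfl, ⟨e⟩⟩ := hS.real
  exact H908.RIM.nb_E7 e hp (not_charP hp hq) hd

end Cfsg.Agent.H325.RIM
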