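import Cfsg.Agent.H325.RIM.Main
import Cfsg.Agent.H325.RIM.EKCongr
import Cfsg.Agent.H929.RIM.PsuRow
import Cfsg.Agent.H509.RIM.GTwo

/-!
# S4816: fields of `RowsNB` and `RowsKill`, fourth batch (helper325)
-/

set_option autoImplicit false
set_option linter.unusedSectionVars false

namespace Cfsg.Agent.H325.RIM

open Cfsg Cfsg.Agent.H665.RIM Cfsg.Agent.OrdDiv Cfsg.Agent.H436

universe u

theorem f_psu : ∀ p n q : ℕ, p.Prime → p ≠ 2 → ¬ p ∣ q → (n, q) ∉ ({(4, 2), (4, 3), (6, 2)} : Set (ℕ × ℕ)) →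
    NBRow p (.psu n q) :=
  fun p n q hp h2 hq hex => H929.RIM.row_psu p n q hp h2 hq hex

theorem f_g24 : NBRow 3 (.g2 4) := by
  intro S _ _ hS hd
  obtain ⟨F, _, _, hF, ⟨e⟩⟩ := hS.real
  exact H509.RIM.GTwo.nball_three hF e

end Cfsg.Agent.H325.RIM
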