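import Cfsg.Agent.H325.RIM.Main
import Cfsg.Agent.H325.RIM.EKCongr
import Cfsg.Agent.H57.RIM.OwnEx
import Cfsg.Agent.H57.RIM.OwnPlus
import Cfsg.Agent.H929.RIM.OwnRows
import Cfsg.Agent.H963.RIM.OwnM
import Cfsg.Agent.H655.RIM.U62Row

/-!
# S4816: fields of `RowsNB`, own characteristic and `U_6(2)` (helper325)
-/

set_option autoImplicit false
set_option linter.unusedSectionVars false

namespace Cfsg.Agent.H325.RIM

open Cfsg Cfsg.Agent.H665.RIM Cfsg.Agent.OrdDiv Cfsg.Agent.H436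

universe u

theorem f_own_e6 : ∀ p q : ℕ, p.Prime → p ≠ 2 → p ∣ q → 3 ∣ q - 1 → NBRow p (.e6 q) := H57.RIM.own_e6

theorem f_own_e7 : ∀ p q : ℕ, p.Prime → p ≠ 2 → p ∣ q → NBRow p (.e7 q) := H57.RIM.own_e7

theorem f_own_te6 : ∀ p q : ℕ, p.Prime → p ≠ 2 → p ∣ q → 3 ∣ q + 1 → NBRow p (.te6 q) := H57.RIM.own_te6

theorem f_own_oplus : ∀ p m q : ℕ, p.Prime → p ≠ 2 → p ∣ q → NBRow p (.oplus m q) := H57.RIM.own_oplus

theorem f_own_oodd : ∀ p m q : ℕ, p.Prime → p ≠ 2 → p ∣ q → NBRow p (.oodd m q) := H929.RIM.own_oodd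

theorem f_own_ominus : ∀ p m q : ℕ, p.Prime → p ≠ 2 → p ∣ q → NBRow p (.ominus m q) := H929.RIM.own_ominus

/-- a field of order divisible by `p` has characteristic `p` -/
theorem charP_of {F : Type} [Field F] [Fintype F] {p : ℕ} (hp : p.Prime) (h : p ∣ Fintype.card F) : CharP F p := by
  obtain ⟨r, hr⟩ := CharP.exists F
  have hrp : r.Prime := (CharP.char_is_prime_or_zero F r).resolve_right (CharP.char_ne_zero_of_finite F r)
  have : Fact r.Prime := ⟨hrp⟩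
  obtain ⟨n, -, hn⟩ := FiniteField.card F r
  have h1 : p = r := (Nat.prime_dvd_prime_iff_eq hp hrp).1 (hp.dvd_of_dvd_pow (hn ▸ h))
  exact h1 ▸ hr

theorem f_own_psp : ∀ p m q : ℕ, p.Prime → p ≠ 2 → p ∣ q → NBRow p (.psp m q) := by
  intro p m q hp _ hq S _ _ hS _
  obtain ⟨F, _, _, rfl, ⟨e⟩⟩ := hS.real
  have : Fact p.Prime := ⟨hp⟩
  have := charP_of hp hq
  exact NBall.congr e (H963.RIM.nb_own_psp hS.cond.1)

/-- the field `own_psu` from the case `n = 3` -/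
theorem f_own_psu_of (h3 : ∀ p q : ℕ, p.Prime → p ≠ 2 → p ∣ q → NBRow p (.psu 3 q)) :
    ∀ p n q : ℕ, p.Prime → p ≠ 2 → p ∣ q → NBRow p (.psu n q) := by
  intro p n q hp h2 hq S _ _ hS hd
  rcases Nat.lt_or_ge n 4 with h | h
  · have h4 : n = 3 := by
      have := hS.cond.1
      omega
    subst h4
    exact h3 p q hp h2 hq S hS hd
  · obtain ⟨F, _, _, hF, ⟨e⟩⟩ := hS.real
    have : Fact p.Prime := ⟨hp⟩
    have := charP_of (F := F) hp (by rw [hF]; exact Dvd.dvd.pow hq two_ne_zero)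
    exact NBall.congr e (H963.RIM.nb_own_psu hF h)

theorem f_u62 : NBRow 3 (.psu 6 2) := H655.RIM.u62

end Cfsg.Agent.H325.RIM
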