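import Cfsg.Agent.H325.RIM.Main
import Cfsg.Agent.H325.RIM.EKCongr
import Cfsg.Agent.H733.RIM.Rows
import Cfsg.Agent.H277.RIM.GTwoFour
import Cfsg.Agent.H793.RIM.L34EK
import Cfsg.Agent.H425.RIM.L34Row
import Cfsg.Agent.H354.RIM.RowAltEight

/-!
# S4816: fields of `RowsKill` (helper325)
-/

set_option autoImplicit false
set_option linter.unusedSectionVars false

namespace Cfsg.Agent.H325.RIM

open Cfsg Cfsg.Agent.H665.RIM Cfsg.Agent.OrdDiv Cfsg.Agent.H436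

universe u

theorem k_f42 : ∀ p : ℕ, p = 5 ∨ p = 7 ∨ p = 13 ∨ p = 17 → KillRow.{u} p (.f4 2) := by
  intro p h S _ _ hS
  obtain ⟨F, _, _, hF, ⟨e⟩⟩ := hS.real
  exact Or.inr (H733.RIM.row_f42 hF e h)

theorem k_te62 : ∀ p : ℕ, p = 5 ∨ p = 7 ∨ p = 11 ∨ p = 13 ∨ p = 17 ∨ p = 19 → KillRow.{u} p (.te6 2) := by
  intro p h S _ _ hS
  obtain ⟨F, _, _, hF, ⟨e⟩⟩ := hS.real
  exact Or.inr (H733.RIM.row_te62 hF e h)

theorem k_g24 : ∀ p : ℕ, p = 5 ∨ p = 7 ∨ p = 13 → KillRow.{u} p (.g2 4) := by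
  intro p h S _ _ hS
  obtain ⟨F, _, _, hF, ⟨e⟩⟩ := hS.real
  exact Or.inr (EK.congr e (H277.RIM.GTwo.ek hF h))

theorem k_l34 : ∀ p : ℕ, p = 3 ∨ p = 5 ∨ p = 7 → KillRow.{u} p (.psl 3 4) := by
  intro p h S _ _ hS
  obtain ⟨F, _, _, hF, e⟩ := hS.real
  rcases h with rfl | rfl | rfl
  · exact Or.inr (H793.RIM.ek3_L34 hF e)
  · exact Or.inl (H425.RIM.l34_five hF e)
  · exact Or.inr (H425.RIM.l34_seven hF e)

theorem k_a8 : KillRow.{u} 5 (.alt 8) := H354.RIM.row_a8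

end Cfsg.Agent.H325.RIM
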