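import Cfsg.Agent.H325.RIM.Main
import Cfsg.Agent.H325.RIM.EKCongr
import Cfsg.Agent.H963.RIM.OwnRows
import Cfsg.Agent.H497.RIM.OwnPSURow
import Cfsg.Agent.H567.RIM.OPlus
import Cfsg.Agent.H720.RIM.Row
import Cfsg.Agent.H121.RIM.USix
import Cfsg.Agent.H88.RIM.O8Seven

/-!
# S4816: fields of `RowsNB`, `RowsKill` (helper325)
-/

set_option autoImplicit false
set_option linter.unusedSectionVars false

namespace Cfsg.Agent.H325.RIM

open Cfsg Cfsg.Agent.H665.RIM Cfsg.Agent.OrdDiv Cfsg.Agent.H436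

universe u

theorem f_own_psl : ∀ p n q : ℕ, p.Prime → p ≠ 2 → p ∣ q → 3 ≤ n → NBRow p (.psl n q) := H963.RIM.own_psl

theorem f_own_psu : ∀ p n q : ℕ, p.Prime → p ≠ 2 → p ∣ q → NBRow p (.psu n q) := H497.RIM.own_psu

theorem f_oplus : ∀ p m q : ℕ, p.Prime → p ≠ 2 → ¬ p ∣ q → Odd q → NBRow p (.oplus m q) := H567.RIM.oplus

theorem f_te62 : NBRow 3 (.te6 2) := H720.RIM.te62

theorem k_o8p_7 : KillRow.{u} 7 (.oplus 4 2) := by
  intro S _ _ hS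
  obtain ⟨F, _, _, hF, h⟩ := hS.real
  exact Or.inl (H88.RIM.nball_seven hF h)

theorem k_u62_7 : KillRow.{u} 7 (.psu 6 2) := by
  intro S _ _ hS
  obtain ⟨F, _, _, hF, ⟨e⟩⟩ := hS.real
  exact Or.inl (H121.RIM.row_seven (by rw [hF]; rfl) e)

theorem k_u62_11 : KillRow.{u} 11 (.psu 6 2) := by
  intro S _ _ hS
  obtain ⟨F, _, _, hF, ⟨e⟩⟩ := hS.real
  exact Or.inl (H121.RIM.row_eleven (by rw [hF]; rfl) e)

end Cfsg.Agent.H325.RIM
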