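import Cfsg.Agent.H325.RIM.Main
import Cfsg.Agent.H325.RIM.EKCongr
import Cfsg.Agent.H79.RIM.Row
import Cfsg.Agent.H993.RIM.OMinusFin

/-!
# S4816: fields `oodd`, `ominus` of `RowsNB` (helper325)
-/

set_option autoImplicit false
set_option linter.unusedSectionVars false

namespace Cfsg.Agent.H325.RIM

open Cfsg Cfsg.Agent.H665.RIM Cfsg.Agent.OrdDiv Cfsg.Agent.H436

universe u

theorem f_oodd : ∀ p m q : ℕ, p.Prime → p ≠ 2 → ¬ p ∣ q → ¬ (m = 3 ∧ q = 3) → NBRow p (.oodd m q) := H79.RIM.row_oodd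

theorem f_ominus : ∀ p m q : ℕ, p.Prime → p ≠ 2 → ¬ p ∣ q → Odd q → ¬ (m = 4 ∧ q = 3 ∧ p = 13) → NBRow p (.ominus m q) :=
  H993.RIM.ominus

end Cfsg.Agent.H325.RIM
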