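import Cfsg.Agent.H325.RIM.Main
import Cfsg.Agent.H325.RIM.EKCongr
import Cfsg.Agent.H588.RIM.Row
import Cfsg.Agent.H88.RIM.O8Seven
import Cfsg.Agent.H354.RIM.RowAltSix
import Cfsg.Agent.H175.RIM.ASevenNBs
import Cfsg.Agent.H809.RIM.A7
import Cfsg.Agent.H516.RIM.F42

/-!
# S4816: fields of `RowsNB`, `RowsKill` (helper325)
-/

set_option autoImplicit false
set_option linter.unusedSectionVars false

namespace Cfsg.Agent.H325.RIM

open Cfsg Cfsg.Agent.H665.RIM Cfsg.Agent.OrdDiv Cfsg.Agent.H436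

universe u

theorem f_o8p : NBRow 3 (.oplus 4 2) := by
  intro S _ _ hS _
  obtain ⟨F, _, _, hF, h⟩ := hS.real
  exact H588.RIM.Row.nball_three hF h

theorem k_o8p : ∀ p : ℕ, p = 5 ∨ p = 7 → KillRow.{u} p (.oplus 4 2) := by
  rintro p (rfl | rfl) S _ _ hS
  · obtain ⟨F, _, _, hF, h⟩ := hS.real
    exact Or.inl (H588.RIM.Row.nball_five hF h)
  · obtain ⟨F, _, _, hF, h⟩ := hS.real
    exact Or.inl (H88.RIM.nball_seven hF h)

theorem f_f42 : NBRow 3 (.f4 2) := by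
  intro S _ _ hS _
  obtain ⟨F, _, _, hF, h⟩ := hS.real
  exact H516.RIM.F42.nball_f42 hF h

theorem k_a6 : KillRow.{u} 5 (.alt 6) := H354.RIM.row_a6

theorem k_a7_7 : KillRow.{u} 7 (.alt 7) := by
  intro S _ _ hS
  obtain ⟨e⟩ := hS.real
  exact Or.inr (EK.congr e (H175.RIM.Seven.ek_a7_7 H809.RIM.noPEx_seven_alt7))

end Cfsg.Agent.H325.RIM
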