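import Cfsg.Agent.H325.RIM.Surv
import Cfsg.Agent.H325.RIM.EKCongr
import Cfsg.Agent.H382.RIM.HS
import Cfsg.Agent.H57.RIM.JThreeFive
import Cfsg.Agent.H306.RIM.JThree
import Cfsg.Agent.H759.RIM.Suz
import Cfsg.Agent.H714.RIM.Suz

/-!
# S4816: fields `hs`, `suz` of `RowsNB`, `j3`, `suz` of `RowsKill` (helper325)
-/

set_option autoImplicit false
set_option linter.unusedSectionVars false

namespace Cfsg.Agent.H325.RIM

open Cfsg Cfsg.Agent.H665.RIM Cfsg.Agent.OrdDiv Cfsg.Agent.H436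

universe u

theorem f_hs : NBRow 5 .hs := fun _ _ _ hS _ => H382.RIM.HS.row hS.real

theorem f_suz : NBRow 3 .suz := fun _ _ _ hS _ => H759.RIM.SuzRow.nball_three hS.real

theorem k_j3 : ∀ p : ℕ, p = 5 ∨ p = 17 ∨ p = 19 → KillRow.{u} p .j3 := by
  rintro p (rfl | rfl | rfl) S _ _ hS
  · exact Or.inl (H57.RIM.JThreeFive.nball_five hS.real)
  · exact Or.inl (H306.RIM.JThree.nball_seventeen hS.real)
  · exact Or.inl (H306.RIM.JThree.nball_nineteen hS.real)

theorem k_suz : ∀ p : ℕ, p = 5 ∨ p = 7 ∨ p = 11 ∨ p = 13 → KillRow.{u} p .suz := by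
  rintro p (rfl | rfl | rfl | rfl) S _ _ hS
  · exact Or.inl (H759.RIM.SuzRow.nball_five hS.real)
  · exact Or.inl (H759.RIM.SuzRow.nball_seven hS.real)
  · exact Or.inl (H714.RIM.SuzRow.nball_eleven hS.real)
  · exact Or.inl (H714.RIM.SuzRow.nball_thirteen hS.real)

end Cfsg.Agent.H325.RIM
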